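import Cfsg.Agent.Lib.Th.Stab

/-!
# Counting pairs of conjugates, first part
-/

set_option autoImplicit false
set_option maxRecDepth 1000000
set_option maxHeartbeats 0
set_option Elab.async false

namespace Cfsg.Lib.Th

open Cfsg.Lib.Calc Cfsg.Lib.F2 Cfsg.Lib.Big MulAction Subgroup

theorem cn1_s0 : sumOK (nat_lit 0) (nat_lit 46) (cntF eP (phiP (nat_lit 576) (e24.inCl Cl)) sT1_0 (sT1.drop 1)) (nat_lit 0) = true := by decide +kernel
theorem cn1_s1 : sumOK (nat_lit 46) (nat_lit 46) (cntF eP (phiP (nat_lit 576) (e24.inCl Cl)) sT1_0 (sT1.drop 1)) (nat_lit 3) = true := by decide +kernel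
theorem cn1_s2 : sumOK (nat_lit 92) (nat_lit 46) (cntF eP (phiP (nat_lit 576) (e24.inCl Cl)) sT1_0 (sT1.drop 1)) (nat_lit 0) = true := by decide +kernel
theorem cn1_s3 : sumOK (nat_lit 138) (nat_lit 46) (cntF eP (phiP (nat_lit 576) (e24.inCl Cl)) sT1_0 (sT1.drop 1)) (nat_lit 0) = true := by decide +kernel
theorem cn1_s4 : sumOK (nat_lit 184) (nat_lit 46) (cntF eP (phiP (nat_lit 576) (e24.inCl Cl)) sT1_0 (sT1.drop 1)) (nat_lit 0) = true := by decide +kernel
theorem cn1_s5 : sumOK (nat_lit 230) (nat_lit 46) (cntF eP (phiP (nat_lit 576) (e24.inCl Cl)) sT1_0 (sT1.drop 1)) (nat_lit 0) = true := by decide +kernel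
theorem cn1_s6 : sumOK (nat_lit 276) (nat_lit 46) (cntF eP (phiP (nat_lit 576) (e24.inCl Cl)) sT1_0 (sT1.drop 1)) (nat_lit 0) = true := by decide +kernel
theorem cn1_s7 : sumOK (nat_lit 322) (nat_lit 46) (cntF eP (phiP (nat_lit 576) (e24.inCl Cl)) sT1_0 (sT1.drop 1)) (nat_lit 0) = true := by decide +kernel
theorem cn1_s8 : sumOK (nat_lit 368) (nat_lit 46) (cntF eP (phiP (nat_lit 576) (e24.inCl Cl)) sT1_0 (sT1.drop 1)) (nat_lit 0) = true := by decide +kernel
theorem cn1_s9 : sumOK (nat_lit 414) (nat_lit 46) (cntF eP (phiP (nat_lit 576) (e24.inCl Cl)) sT1_0 (sT1.drop 1)) (nat_lit 0) = true := by decide +kernel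
theorem cn1_s10 : sumOK (nat_lit 460) (nat_lit 46) (cntF eP (phiP (nat_lit 576) (e24.inCl Cl)) sT1_0 (sT1.drop 1)) (nat_lit 0) = true := by decide +kernel
theorem cn1_s11 : sumOK (nat_lit 506) (nat_lit 46) (cntF eP (phiP (nat_lit 576) (e24.inCl Cl)) sT1_0 (sT1.drop 1)) (nat_lit 0) = true := by decide +kernel
theorem cn1_s12 : sumOK (nat_lit 552) (nat_lit 46) (cntF eP (phiP (nat_lit 576) (e24.inCl Cl)) sT1_0 (sT1.drop 1)) (nat_lit 0) = true := by decide +kernel
theorem cn1_s13 : sumOK (nat_lit 598) (nat_lit 46) (cntF eP (phiP (nat_lit 576) (e24.inCl Cl)) sT1_0 (sT1.drop 1)) (nat_lit 0) = true := by decide +kernel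
theorem cn1_s14 : sumOK (nat_lit 644) (nat_lit 46) (cntF eP (phiP (nat_lit 576) (e24.inCl Cl)) sT1_0 (sT1.drop 1)) (nat_lit 0) = true := by decide +kernel
theorem cn1_s15 : sumOK (nat_lit 690) (nat_lit 46) (cntF eP (phiP (nat_lit 576) (e24.inCl Cl)) sT1_0 (sT1.drop 1)) (nat_lit 0) = true := by decide +kernel
theorem cn1_s16 : sumOK (nat_lit 736) (nat_lit 46) (cntF eP (phiP (nat_lit 576) (e24.inCl Cl)) sT1_0 (sT1.drop 1)) (nat_lit 0) = true := by decide +kernel
theorem cn1_s17 : sumOK (nat_lit 782) (nat_lit 46) (cntF eP (phiP (nat_lit 576) (e24.inCl Cl)) sT1_0 (sT1.drop 1)) (nat_lit 0) = true := by decide +kernel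
theorem cn1_s18 : sumOK (nat_lit 828) (nat_lit 46) (cntF eP (phiP (nat_lit 576) (e24.inCl Cl)) sT1_0 (sT1.drop 1)) (nat_lit 0) = true := by decide +kernel
theorem cn1_s19 : sumOK (nat_lit 874) (nat_lit 46) (cntF eP (phiP (nat_lit 576) (e24.inCl Cl)) sT1_0 (sT1.drop 1)) (nat_lit 0) = true := by decide +kernel
theorem cn1_s20 : sumOK (nat_lit 920) (nat_lit 46) (cntF eP (phiP (nat_lit 576) (e24.inCl Cl)) sT1_0 (sT1.drop 1)) (nat_lit 0) = true := by decide +kernel
theorem cn1_s21 : sumOK (nat_lit 966) (nat_lit 46) (cntF eP (phiP (nat_lit 576) (e24.inCl Cl)) sT1_0 (sT1.drop 1)) (nat_lit 0) = true := by decide +kernel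
theorem cn1_s22 : sumOK (nat_lit 1012) (nat_lit 46) (cntF eP (phiP (nat_lit 576) (e24.inCl Cl)) sT1_0 (sT1.drop 1)) (nat_lit 0) = true := by decide +kernel
theorem cn1_s23 : sumOK (nat_lit 1058) (nat_lit 46) (cntF eP (phiP (nat_lit 576) (e24.inCl Cl)) sT1_0 (sT1.drop 1)) (nat_lit 0) = true := by decide +kernel
theorem cn1_s24 : sumOK (nat_lit 1104) (nat_lit 46) (cntF eP (phiP (nat_lit 576) (e24.inCl Cl)) sT1_0 (sT1.drop 1)) (nat_lit 0) = true := by decide +kernel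
theorem cn1_s25 : sumOK (nat_lit 1150) (nat_lit 2) (cntF eP (phiP (nat_lit 576) (e24.inCl Cl)) sT1_0 (sT1.drop 1)) (nat_lit 0) = true := by decide +kernel
theorem cn1 : sumLt sT1_0.O.m (cntF eP (phiP (nat_lit 576) (e24.inCl Cl)) sT1_0 (sT1.drop 1)) ≤ 3 :=
  have := (sum_append (sum_append (sum_append (sum_append (sum_append (sum_append (sum_append (sum_append (sum_append (sum_append (sum_append (sum_append (sum_append (sum_append (sum_append (sum_append (sum_append (sum_append (sum_append (sum_append (sum_append (sum_append (sum_append (sum_append (sum_append (sum_append (sum_nil _) cn1_s0) cn1_s1) cn1_s2) cn1_s3) cn1_s4) cn1_s5) cn1_s6) cn1_s7) cn1_s8) cn1_s9) cn1_s10) cn1_s11) cn1_s12) cn1_s13) cn1_s14) cn1_s15) cn1_s16) cn1_s17) cn1_s18) cn1_s19) cn1_s20) cn1_s21) cn1_s22) cn1_s23) cn1_s24) cn1_s25)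
  this

end Cfsg.Lib.Th
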