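import Cfsg.Agent.Lib.Th.Stab

/-!
# Counting pairs of conjugates, second part
-/

set_option autoImplicit false
set_option maxRecDepth 1000000
set_option maxHeartbeats 0
set_option Elab.async false

namespace Cfsg.Lib.Th

open Cfsg.Lib.Calc Cfsg.Lib.F2 Cfsg.Lib.Big MulAction Subgroup

theorem cn2_s0 : sumOK (nat_lit 0) (nat_lit 1) (cntF eP (phiP (nat_lit 576) (e24.inCl Cl)) sT2_0 (sT2.drop 1)) (nat_lit 1) = true := by decide +kernel
theorem cn2_s1 : sumOK (nat_lit 1) (nat_lit 1) (cntF eP (phiP (nat_lit 576) (e24.inCl Cl)) sT2_0 (sT2.drop 1)) (nat_lit 0) = true := by decide +kernel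
theorem cn2_s2 : sumOK (nat_lit 2) (nat_lit 1) (cntF eP (phiP (nat_lit 576) (e24.inCl Cl)) sT2_0 (sT2.drop 1)) (nat_lit 0) = true := by decide +kernel
theorem cn2_s3 : sumOK (nat_lit 3) (nat_lit 1) (cntF eP (phiP (nat_lit 576) (e24.inCl Cl)) sT2_0 (sT2.drop 1)) (nat_lit 0) = true := by decide +kernel
theorem cn2_s4 : sumOK (nat_lit 4) (nat_lit 1) (cntF eP (phiP (nat_lit 576) (e24.inCl Cl)) sT2_0 (sT2.drop 1)) (nat_lit 0) = true := by decide +kernel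
theorem cn2_s5 : sumOK (nat_lit 5) (nat_lit 1) (cntF eP (phiP (nat_lit 576) (e24.inCl Cl)) sT2_0 (sT2.drop 1)) (nat_lit 0) = true := by decide +kernel
theorem cn2_s6 : sumOK (nat_lit 6) (nat_lit 1) (cntF eP (phiP (nat_lit 576) (e24.inCl Cl)) sT2_0 (sT2.drop 1)) (nat_lit 0) = true := by decide +kernel
theorem cn2_s7 : sumOK (nat_lit 7) (nat_lit 1) (cntF eP (phiP (nat_lit 576) (e24.inCl Cl)) sT2_0 (sT2.drop 1)) (nat_lit 0) = true := by decide +kernel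
theorem cn2_s8 : sumOK (nat_lit 8) (nat_lit 1) (cntF eP (phiP (nat_lit 576) (e24.inCl Cl)) sT2_0 (sT2.drop 1)) (nat_lit 0) = true := by decide +kernel
theorem cn2 : sumLt sT2_0.O.m (cntF eP (phiP (nat_lit 576) (e24.inCl Cl)) sT2_0 (sT2.drop 1)) ≤ 1 :=
  have := (sum_append (sum_append (sum_append (sum_append (sum_append (sum_append (sum_append (sum_append (sum_append (sum_nil _) cn2_s0) cn2_s1) cn2_s2) cn2_s3) cn2_s4) cn2_s5) cn2_s6) cn2_s7) cn2_s8)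
  this
theorem cn3_s0 : sumOK (nat_lit 0) (nat_lit 8) (cntF eP (phiP (nat_lit 576) (e24.inCl Cl)) sT3_0 (sT3.drop 1)) (nat_lit 0) = true := by decide +kernel
theorem cn3 : sumLt sT3_0.O.m (cntF eP (phiP (nat_lit 576) (e24.inCl Cl)) sT3_0 (sT3.drop 1)) ≤ 0 :=
  have := (sum_append (sum_nil _) cn3_s0)
  this
theorem cn4_s0 : sumOK (nat_lit 0) (nat_lit 9) (cntF eP (phiP (nat_lit 576) (e24.inCl Cl)) sT4_0 (sT4.drop 1)) (nat_lit 0) = true := by decide +kernel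
theorem cn4 : sumLt sT4_0.O.m (cntF eP (phiP (nat_lit 576) (e24.inCl Cl)) sT4_0 (sT4.drop 1)) ≤ 0 :=
  have := (sum_append (sum_nil _) cn4_s0)
  this
theorem cn5_s0 : sumOK (nat_lit 0) (nat_lit 9) (cntF eP (phiP (nat_lit 576) (e24.inCl Cl)) sT5_0 (sT5.drop 1)) (nat_lit 0) = true := by decide +kernel
theorem cn5 : sumLt sT5_0.O.m (cntF eP (phiP (nat_lit 576) (e24.inCl Cl)) sT5_0 (sT5.drop 1)) ≤ 0 :=
  have := (sum_append (sum_nil _) cn5_s0)
  this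
theorem cn6_s0 : sumOK (nat_lit 0) (nat_lit 6) (cntF eP (phiP (nat_lit 576) (e24.inCl Cl)) sT6_0 (sT6.drop 1)) (nat_lit 0) = true := by decide +kernel
theorem cn6 : sumLt sT6_0.O.m (cntF eP (phiP (nat_lit 576) (e24.inCl Cl)) sT6_0 (sT6.drop 1)) ≤ 0 :=
  have := (sum_append (sum_nil _) cn6_s0)
  this
theorem cn7_s0 : sumOK (nat_lit 0) (nat_lit 7) (cntF eP (phiP (nat_lit 576) (e24.inCl Cl)) sT7_0 (sT7.drop 1)) (nat_lit 0) = true := by decide +kernel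
theorem cn7 : sumLt sT7_0.O.m (cntF eP (phiP (nat_lit 576) (e24.inCl Cl)) sT7_0 (sT7.drop 1)) ≤ 0 :=
  have := (sum_append (sum_nil _) cn7_s0)
  this
theorem cn8_s0 : sumOK (nat_lit 0) (nat_lit 13) (cntF eP (phiP (nat_lit 576) (e24.inCl Cl)) sT8_0 (sT8.drop 1)) (nat_lit 0) = true := by decide +kernel
theorem cn8 : sumLt sT8_0.O.m (cntF eP (phiP (nat_lit 576) (e24.inCl Cl)) sT8_0 (sT8.drop 1)) ≤ 0 :=
  have := (sum_append (sum_nil _) cn8_s0)
  this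
theorem cn9_s0 : sumOK (nat_lit 0) (nat_lit 12) (cntF eP (phiP (nat_lit 576) (e24.inCl Cl)) sT9_0 (sT9.drop 1)) (nat_lit 0) = true := by decide +kernel
theorem cn9 : sumLt sT9_0.O.m (cntF eP (phiP (nat_lit 576) (e24.inCl Cl)) sT9_0 (sT9.drop 1)) ≤ 0 :=
  have := (sum_append (sum_nil _) cn9_s0)
  this
theorem cn10_s0 : sumOK (nat_lit 0) (nat_lit 11) (cntF eP (phiP (nat_lit 576) (e24.inCl Cl)) sT10_0 (sT10.drop 1)) (nat_lit 0) = true := by decide +kernel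
theorem cn10_s1 : sumOK (nat_lit 11) (nat_lit 11) (cntF eP (phiP (nat_lit 576) (e24.inCl Cl)) sT10_0 (sT10.drop 1)) (nat_lit 0) = true := by decide +kernel
theorem cn10_s2 : sumOK (nat_lit 22) (nat_lit 6) (cntF eP (phiP (nat_lit 576) (e24.inCl Cl)) sT10_0 (sT10.drop 1)) (nat_lit 0) = true := by decide +kernel
theorem cn10 : sumLt sT10_0.O.m (cntF eP (phiP (nat_lit 576) (e24.inCl Cl)) sT10_0 (sT10.drop 1)) ≤ 0 :=
  have := (sum_append (sum_append (sum_append (sum_nil _) cn10_s0) cn10_s1) cn10_s2)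
  this

end Cfsg.Lib.Th
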