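import Cfsg.Prelude.Def_Spor_Th
import Cfsg.Agent.Lib.Th.TC
import Cfsg.Agent.Lib.Big.Norm
import Cfsg.Agent.Lib.Calc.Iso

/-!
# The presentation of the Thompson group
-/

set_option autoImplicit false
set_option maxRecDepth 1000000
set_option maxHeartbeats 0
set_option Elab.async false

namespace Cfsg.Lib.Th

open Cfsg.Lib.Calc Cfsg.Lib.Big Cfsg.Spor Subgroup

/-- The generators. -/
def num (c : ℕ) : Th.Gen := [Th.Gen.a, .b, .c, .d, .e, .s, .t].getD c .u

/-- The relators. -/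
def rels : List W := [.pow (.l 0) 2,
  .pow (.l 1) 2,
  .pow (.l 2) 2,
  .pow (.l 3) 2,
  .pow (.l 4) 2,
  .pow (.mul (.l 0) (.l 1)) 3,
  .pow (.mul (.l 0) (.l 4)) 2,
  .pow (.mul (.l 1) (.l 2)) 3,
  .pow (.mul (.l 1) (.l 3)) 2,
  .pow (.mul (.l 1) (.l 4)) 2,
  .mul (.l 0) (.inv (.pow (.mul (.l 2) (.l 3)) 4)),
  .pow (.mul (.l 2) (.l 4)) 2,
  .pow (.mul (.l 3) (.l 4)) 3,
  .pow (.mul (.mul (.mul (.l 1) (.l 2)) (.l 3)) (.l 4)) 8,
  .pow (.l 5) 7,
  .mul (.mul (.mul (.inv (.l 5)) (.inv (.l 0))) (.l 5)) (.l 0),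
  .mul (.mul (.mul (.inv (.l 5)) (.inv (.l 1))) (.l 5)) (.l 1),
  .mul (.mul (.mul (.inv (.l 5)) (.inv (.l 2))) (.l 5)) (.l 2),
  .pow (.mul (.l 5) (.l 3)) 2,
  .mul (.mul (.mul (.mul (.inv (.l 4)) (.inv (.l 5))) (.l 4)) (.l 5)) (.inv (.mul (.mul (.inv (.pow (.l 5) 3)) (.l 4)) (.pow (.l 5) 3))),
  .pow (.l 6) 3,
  .mul (.mul (.mul (.inv (.l 6)) (.inv (.l 0))) (.l 6)) (.l 0),
  .mul (.mul (.mul (.inv (.l 6)) (.inv (.l 1))) (.l 6)) (.l 1),
  .mul (.mul (.mul (.inv (.l 6)) (.inv (.l 2))) (.l 6)) (.l 2),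
  .mul (.mul (.mul (.inv (.l 6)) (.inv (.l 3))) (.l 6)) (.l 3),
  .mul (.mul (.mul (.inv (.l 6)) (.inv (.l 4))) (.l 6)) (.l 4),
  .mul (.mul (.mul (.inv (.l 6)) (.l 5)) (.l 6)) (.inv (.pow (.l 5) 2)),
  .mul (.pow (.l 7) 2) (.inv (.mul (.l 0) (.l 2))),
  .mul (.mul (.mul (.inv (.l 7)) (.inv (.l 0))) (.l 7)) (.l 0),
  .mul (.mul (.mul (.inv (.l 7)) (.inv (.l 2))) (.l 7)) (.l 2),
  .mul (.mul (.mul (.inv (.l 7)) (.inv (.l 4))) (.l 7)) (.l 4),
  .pow (.mul (.mul (.l 3) (.l 4)) (.mul (.mul (.inv (.l 7)) (.l 3)) (.l 7))) 2,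
  .mul (.mul (.mul (.mul (.inv (.l 7)) (.inv (.mul (.mul (.inv (.l 1)) (.mul (.l 0) (.l 2))) (.l 1)))) (.l 7)) (.mul (.mul (.inv (.l 1)) (.mul (.l 0) (.l 2))) (.l 1))) (.inv (.l 4)),
  .mul (.mul (.mul (.mul (.inv (.mul (.mul (.inv (.l 3)) (.l 7)) (.l 3))) (.inv (.mul (.mul (.inv (.l 1)) (.mul (.l 0) (.l 2))) (.l 1)))) (.mul (.mul (.inv (.l 3)) (.l 7)) (.l 3))) (.mul (.mul (.inv (.l 1)) (.mul (.l 0) (.l 2))) (.l 1))) (.inv (.mul (.mul (.mul (.mul (.mul (.l 7) (.l 4)) (.mul (.mul (.inv (.l 1)) (.mul (.l 0) (.l 2))) (.l 1))) (.mul (.mul (.inv (.l 3)) (.l 7)) (.l 3))) (.l 4)) (.l 2))),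
  .mul (.mul (.mul (.inv (.l 7)) (.l 6)) (.l 7)) (.inv (.inv (.l 6))),
  .mul (.mul (.mul (.inv (.l 4)) (.inv (.mul (.mul (.inv (.pow (.l 5) 2)) (.l 7)) (.pow (.l 5) 2)))) (.l 4)) (.mul (.mul (.inv (.pow (.l 5) 2)) (.l 7)) (.pow (.l 5) 2)),
  .mul (.mul (.l 0) (.l 2)) (.inv (.pow (.mul (.l 7) (.l 5)) 3)),
  .mul (.mul (.l 0) (.l 2)) (.inv (.pow (.mul (.mul (.mul (.inv (.l 7)) (.inv (.l 5))) (.l 7)) (.l 5)) 4)),
  .mul (.pow (.mul (.l 3) (.mul (.mul (.inv (.pow (.l 5) 2)) (.l 7)) (.pow (.l 5) 2))) 4) (.inv (.mul (.mul (.mul (.mul (.l 0) (.l 2)) (.mul (.mul (.inv (.l 3)) (.l 2)) (.l 3))) (.mul (.mul (.inv (.mul (.mul (.l 3) (.l 4)) (.inv (.l 5)))) (.l 2)) (.mul (.mul (.l 3) (.l 4)) (.inv (.l 5))))) (.mul (.mul (.inv (.mul (.mul (.l 3) (.l 4)) (.pow (.l 5) 2))) (.l 2)) (.mul (.mul (.l 3) (.l 4)) (.pow (.l 5) 2)))))]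

theorem ext_eq : rels.map (W.ev fun c => FreeGroup.of (num c)) = Th.extra := rfl

theorem num_sur (x : Th.Gen) : ∃ c < 8, num c = x := by cases x <;> decide

/-- The generators of the presented group. -/
def gΓ (c : ℕ) : Th := PresentedGroup.of (num c)

theorem ev_gΓ (t : W) : t.ev gΓ = PresentedGroup.mk _ (t.ev fun c => FreeGroup.of (num c)) :=
  (W.map_ev (PresentedGroup.mk _) _ t).symm

theorem rels_gΓ : ∀ t ∈ rels, t.ev gΓ = 1 := fun t ht => by
  rw [ev_gΓ]; exact PresentedGroup.one_of_mem (Or.inr (ext_eq ▸ List.mem_map_of_mem ht))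

theorem top_gΓ : Top 8 gΓ := fun S h => by
  rw [eq_top_iff, ← PresentedGroup.closure_range_of, Subgroup.closure_le]
  rintro _ ⟨x, rfl⟩
  obtain ⟨c, hc, rfl⟩ := num_sur x
  exact h c hc

universe u

variable {G : Type*} [Group G] {δ : ℕ → G}

theorem exists_lift (hr : ∀ t ∈ rels, t.ev δ = 1) : ∃ ρ : Th →* G, ∀ c < 8, ρ (gΓ c) = δ c := by
  choose ix hix e using num_sur
  have k : ∀ c < 8, ix (num c) = c := fun c hc =>
    (by decide : ∀ a < 8, ∀ b < 8, num a = num b → a = b) _ (hix _) _ hc (e _)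
  refine ⟨PresentedGroup.toGroup (f := fun x => δ (ix x)) ?_, fun c hc => by rw [gΓ, PresentedGroup.toGroup.of, k c hc]⟩
  rintro r (⟨x, hx, -⟩ | hr')
  · exact absurd hx (by simp [coxNodes, Th.edges])
  · obtain ⟨t, ht, rfl⟩ := List.mem_map.1 (ext_eq.symm ▸ hr' : r ∈ rels.map _)
    rw [W.map_ev, ← hr t ht]
    exact ev_congr (n := 8) (fun c hc => by rw [FreeGroup.lift_apply_of, k c hc])
      (List.all_eq_true.1 (by decide +kernel : rels.all (ltW 8) = true) t ht)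

/-- The relators in `a, …, e`. -/
def rU : List W := rels.take 14
/-- The relators in `a, …, s`. -/
def rL : List W := rels.take 20
/-- The relators in `a, …, t`. -/
def rH : List W := rels.take 27
/-- The relators without `b`, together with `a, b, c`. -/
def rQ : List W := [.pow (.l 0) 2,
  .pow (.l 1) 2,
  .pow (.l 2) 2,
  .pow (.l 3) 2,
  .pow (.l 4) 2,
  .pow (.mul (.l 0) (.l 4)) 2,
  .mul (.l 0) (.inv (.pow (.mul (.l 2) (.l 3)) 4)),
  .pow (.mul (.l 2) (.l 4)) 2,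
  .pow (.mul (.l 3) (.l 4)) 3,
  .pow (.l 5) 7,
  .mul (.mul (.mul (.inv (.l 5)) (.inv (.l 0))) (.l 5)) (.l 0),
  .mul (.mul (.mul (.inv (.l 5)) (.inv (.l 2))) (.l 5)) (.l 2),
  .pow (.mul (.l 5) (.l 3)) 2,
  .mul (.mul (.mul (.mul (.inv (.l 4)) (.inv (.l 5))) (.l 4)) (.l 5)) (.inv (.mul (.mul (.inv (.pow (.l 5) 3)) (.l 4)) (.pow (.l 5) 3))),
  .pow (.l 6) 3,
  .mul (.mul (.mul (.inv (.l 6)) (.inv (.l 0))) (.l 6)) (.l 0),
  .mul (.mul (.mul (.inv (.l 6)) (.inv (.l 2))) (.l 6)) (.l 2),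
  .mul (.mul (.mul (.inv (.l 6)) (.inv (.l 3))) (.l 6)) (.l 3),
  .mul (.mul (.mul (.inv (.l 6)) (.inv (.l 4))) (.l 6)) (.l 4),
  .mul (.mul (.mul (.inv (.l 6)) (.l 5)) (.l 6)) (.inv (.pow (.l 5) 2)),
  .mul (.pow (.l 7) 2) (.inv (.mul (.l 0) (.l 2))),
  .mul (.mul (.mul (.inv (.l 7)) (.inv (.l 0))) (.l 7)) (.l 0),
  .mul (.mul (.mul (.inv (.l 7)) (.inv (.l 2))) (.l 7)) (.l 2),
  .mul (.mul (.mul (.inv (.l 7)) (.inv (.l 4))) (.l 7)) (.l 4),
  .pow (.mul (.mul (.l 3) (.l 4)) (.mul (.mul (.inv (.l 7)) (.l 3)) (.l 7))) 2,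
  .mul (.mul (.mul (.inv (.l 7)) (.l 6)) (.l 7)) (.inv (.inv (.l 6))),
  .mul (.mul (.mul (.inv (.l 4)) (.inv (.mul (.mul (.inv (.pow (.l 5) 2)) (.l 7)) (.pow (.l 5) 2)))) (.l 4)) (.mul (.mul (.inv (.pow (.l 5) 2)) (.l 7)) (.pow (.l 5) 2)),
  .mul (.mul (.l 0) (.l 2)) (.inv (.pow (.mul (.l 7) (.l 5)) 3)),
  .mul (.mul (.l 0) (.l 2)) (.inv (.pow (.mul (.mul (.mul (.inv (.l 7)) (.inv (.l 5))) (.l 7)) (.l 5)) 4)),
  .mul (.pow (.mul (.l 3) (.mul (.mul (.inv (.pow (.l 5) 2)) (.l 7)) (.pow (.l 5) 2))) 4) (.inv (.mul (.mul (.mul (.mul (.l 0) (.l 2)) (.mul (.mul (.inv (.l 3)) (.l 2)) (.l 3))) (.mul (.mul (.inv (.mul (.mul (.l 3) (.l 4)) (.inv (.l 5)))) (.l 2)) (.mul (.mul (.l 3) (.l 4)) (.inv (.l 5))))) (.mul (.mul (.inv (.mul (.mul (.l 3) (.l 4)) (.pow (.l 5) 2))) (.l 2)) (.mul (.mul (.l 3) (.l 4)) (.pow (.l 5) 2))))),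
  .l 0,
  .l 1,
  .l 2]

theorem lt_rU : rU.all (ltW 5) = true := by decide +kernel
theorem lt_rL : rL.all (ltW 6) = true := by decide +kernel
theorem lt_rH : rH.all (ltW 7) = true := by decide +kernel
theorem lt_rQ : rQ.all (ltW 8) = true := by decide +kernel

theorem rU_of (hr : ∀ t ∈ rL, t.ev δ = 1) : ∀ t ∈ rU, t.ev δ = 1 := rels_of_isIn hr (by decide +kernel)
theorem rL_of (hr : ∀ t ∈ rH, t.ev δ = 1) : ∀ t ∈ rL, t.ev δ = 1 := rels_of_isIn hr (by decide +kernel)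
theorem rH_of (hr : ∀ t ∈ rels, t.ev δ = 1) : ∀ t ∈ rH, t.ev δ = 1 := rels_of_isIn hr (by decide +kernel)

/-- The letters for coset enumerations. -/
def tcl (δ : ℕ → G) (c : ℕ) : G := (1 :: [δ 0, δ 1, δ 2, δ 3, δ 4, δ 5, (δ 5)⁻¹, δ 6, (δ 6)⁻¹, δ 7, (δ 7)⁻¹]).getD c 1

/-- The numbers of the generators in the coset enumerations. -/
def tcn (c : ℕ) : ℕ := [1, 2, 3, 4, 5, 6, 8, 10].getD c 0

theorem tcl_tcn : ∀ c < 8, tcl δ (tcn c) = δ c := fun c hc => by interval_cases c <;> rfl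

theorem sq_of {l : List W} (hr : ∀ t ∈ l, t.ev δ = 1) {c : ℕ} (h : (W.pow (.l c) 2).isIn l = true) : δ c * δ c = 1 :=
  (sq _).symm.trans (hr _ (W.mem_of_isIn h))

theorem lab_tcl {l : List W} (hr : ∀ t ∈ l, t.ev δ = 1) (h : ((rels.take 5).all fun t => t.isIn l) = true) :
    Lab (tcl δ) tcI := by
  have e := rels_of_isIn hr h
  refine Lab.of_list (show tcI < 2 ^ (5 * 12) by decide +kernel) fun c hc => ?_
  change c < 12 at hc
  interval_cases c <;> first | exact mul_one _ | exact inv_mul_cancel _ | exact mul_inv_cancel _ | exact sq_of e rfl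

theorem rels_tcl {l : List W} (hr : ∀ t ∈ l, t.ev δ = 1) (h : l.all (ltW 8) = true) :
    ∀ t ∈ l.map (renW tcn), t.ev (tcl δ) = 1 := List.forall_mem_map.2 fun t ht => by
  rw [ev_renW, ← hr t ht]
  exact ev_congr tcl_tcn (List.all_eq_true.1 h t ht)

theorem genW_top {n : ℕ} (hn : n ≤ 8) (ht : Top n δ) : genW (tcl δ) ((List.range n).map fun c => .l (tcn c)) = ⊤ :=
  ht _ fun c hc => tcl_tcn (δ := δ) c (by omega) ▸ mem_genW _ (t := .l (tcn c)) (List.mem_map_of_mem (List.mem_range.2 hc))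

theorem bndU : Bnd.{u} 5 rU 12096 := fun Q _ δ hr ht => by
  have : Nat.card (genW (tcl δ) ((List.range 5).map fun c => .l (tcn c))) ≠ 0 ∧
      Nat.card (genW (tcl δ) ((List.range 5).map fun c => .l (tcn c))) ≤ _ :=
    card_tu (lab_tcl hr (by decide +kernel)) (rels_tcl hr (by decide +kernel))
  rw [genW_top (by decide) ht, card_top] at this
  exact ⟨Nat.finite_of_card_ne_zero this.1, this.2⟩

theorem bndQ : Bnd.{u} 8 rQ 181440 := fun Q _ δ hr ht => by
  have : Nat.card (genW (tcl δ) ((List.range 8).map fun c => .l (tcn c))) ≠ 0 ∧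
      Nat.card (genW (tcl δ) ((List.range 8).map fun c => .l (tcn c))) ≤ _ :=
    card_tq (lab_tcl hr (by decide +kernel)) (rels_tcl hr lt_rQ)
  rw [genW_top le_rfl ht, card_top] at this
  exact ⟨Nat.finite_of_card_ne_zero this.1, this.2⟩

theorem index_le_three (hr : ∀ t ∈ rH, t.ev δ = 1) (ht : Top 7 δ) {K : Subgroup G} (hK : ∀ c < 6, δ c ∈ K) :
    K.index ≠ 0 ∧ K.index ≤ 3 := by
  have : K.relIndex (genW (tcl δ) ((List.range 7).map fun c => .l (tcn c))) ≠ 0 ∧
      K.relIndex (genW (tcl δ) ((List.range 7).map fun c => .l (tcn c))) ≤ 3 :=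
    th_index (lab_tcl hr (by decide +kernel)) (rels_tcl hr (by decide +kernel))
      (show ∀ t ∈ (List.range 6).map fun c => W.l (tcn c), _ from List.forall_mem_map.2 fun c hc =>
        have := List.mem_range.1 hc; K.mem_carrier.1 ((tcl_tcn (δ := δ) c (by omega)).symm ▸ hK c this : tcl δ (tcn c) ∈ K))
  rwa [genW_top (by decide) ht, relIndex_top_right] at this

def c9_C : ℕ := (nat_lit 0x873456210463857210753682410784365120658734201437856102825763104627584013713845206746532108428637105326845017267358140247568310374852160176832450846253170467281530674321580746831520657284310247568310364572810385276410478253610642358710783426510548763210376845210576348210348567210365784210387456210658743210684753210465873210547683210758463210658743210675843210578643210687543210768543210876543210)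
noncomputable def c9_code : ℕ → ℕ := get (nat_lit 36) c9_C
def c9_R0 : ℕ := (nat_lit 0x8602000008002225a08000008052bbe01400001d199d5c03000003801a1fb0400000600011d80600000e048766c140000182a5f7c0280000281432fa0500000800000000000000b10ebae01800000c19d95c02800001854ae9805000003000000000000008152ba6014000020000047810000020010d0b0400000802533e40a00000c0cecae01400000c00000000000003800008f0200000500000000000000a0000000000000200000000000000300000000000000300001760400000c00000000000001c2a5f7c028000010121d9b0500000500000000000000800453341000000800889682000001000000000000004000000000000002152fbe014000008008a6682000000801112d040000010003bae0600000200000000000000800000000000000000002b02000000002225a0800000000087d00c0000002a5f7c02800000000000000000001)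
def c9_D0 : ℕ := (nat_lit 0x5cab701ab9328d1540b00000001380800000003d0200000000e0080000000330200000000b80800000002002000000005c08000000000000000000000000000000000000000000000000000000000)
noncomputable def c9_L0 : Calc.Lv :=
  ⟨(nat_lit 39), (nat_lit 44), (nat_lit 0), (nat_lit 9), (nat_lit 0), get (nat_lit 14) (nat_lit 0x22018006301840650190066019c04000),
    fun l x => get (nat_lit 59) c9_R0 (Nat.add (Nat.mul x (nat_lit 5)) (Nat.sub l (nat_lit 39))), get (nat_lit 46) c9_D0⟩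
def c9_R1 : ℕ := (nat_lit 0x84e80800000200000000000071899828000028000000000003002340400000c0000000000018000000000001005e3030000040000000000008000000000001404f48180000380000000000070002e020000000000000000008000000000001805b703000000)
noncomputable def c9_L1 : Calc.Lv :=
  ⟨(nat_lit 30), (nat_lit 32), (nat_lit 1), (nat_lit 8), (nat_lit 0), get (nat_lit 13) (nat_lit 0xc80ec07a03c01f80e807002000),
    fun l x => get (nat_lit 51) c9_R1 (Nat.add (Nat.mul x (nat_lit 2)) (Nat.sub l (nat_lit 30))), get (nat_lit 15) (nat_lit 0x83c80656047c087810902000404080000000)⟩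
def c9_R2 : ℕ := (nat_lit 0x100000000000000000000000eb5b04000002003404000014000000000050210080000006190300000301c8080000183d6030000040b180c0000082c60300000600000000000402e02000001)
def c9_D2 : ℕ := (nat_lit 0x10412082400e00001069f8380000000780800000002a040000000080200000000181000000000c080000000000000000000000)
noncomputable def c9_L2 : Calc.Lv :=
  ⟨(nat_lit 22), (nat_lit 24), (nat_lit 2), (nat_lit 7), (nat_lit 0), get (nat_lit 13) (nat_lit 0x5406403301880d006e02000),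
    fun l x => get (nat_lit 46) c9_R2 (Nat.add (Nat.mul x (nat_lit 2)) (Nat.sub l (nat_lit 22))), get (nat_lit 45) c9_D2⟩
def c9_R3 : ℕ := (nat_lit 0x8c8180000100000000000000000000203010000041f81000002c6c0c00000c000000000800000000050000000001c940c00000556060000000000000002)
def c9_D3 : ℕ := (nat_lit 0x669fb0464fb0a0c34000002804000000c020000001810000000c08000000000000000000)
noncomputable def c9_L3 : Calc.Lv :=
  ⟨(nat_lit 15), (nat_lit 17), (nat_lit 3), (nat_lit 6), (nat_lit 0), get (nat_lit 12) (nat_lit 0xe01d01b01f01c01000),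
    fun l x => get (nat_lit 41) c9_R3 (Nat.add (Nat.mul x (nat_lit 2)) (Nat.sub l (nat_lit 15))), get (nat_lit 37) c9_D3⟩
def c9_R4 : ℕ := (nat_lit 0x1e040000040000000022008000008000000012204000008000000000180800001800000000ca02000000000000001)
def c9_D4 : ℕ := (nat_lit 0x9ec7a80b00028b0500000d0200000702000003020000000000000000)
noncomputable def c9_L4 : Calc.Lv :=
  ⟨(nat_lit 9), (nat_lit 11), (nat_lit 4), (nat_lit 5), (nat_lit 0), get (nat_lit 12) (nat_lit 0x701801601901000),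
    fun l x => get (nat_lit 37) c9_R4 (Nat.add (Nat.mul x (nat_lit 2)) (Nat.sub l (nat_lit 9))), get (nat_lit 32) c9_D4⟩
def c9_R5 : ℕ := (nat_lit 0x804000004000000010000000010100000240400000c0000000000000000800000003)
noncomputable def c9_L5 : Calc.Lv :=
  ⟨(nat_lit 4), (nat_lit 6), (nat_lit 5), (nat_lit 4), (nat_lit 0), get (nat_lit 11) (nat_lit 8810057435136),
    fun l x => get (nat_lit 34) c9_R5 (Nat.add (Nat.mul x (nat_lit 2)) (Nat.sub l (nat_lit 4))), get (nat_lit 15) (nat_lit 0xb40e0c080000000)⟩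
noncomputable def c9_L6 : Calc.Lv :=
  ⟨(nat_lit 2), (nat_lit 3), (nat_lit 6), (nat_lit 3), (nat_lit 0), get (nat_lit 10) (nat_lit 270009344),
    fun l x => get (nat_lit 2) (nat_lit 9) (Nat.add (Nat.mul x (nat_lit 1)) (Nat.sub l (nat_lit 2))), get (nat_lit 2) (nat_lit 8)⟩
noncomputable def c9_lvs : List Calc.Lv := [c9_L0, c9_L1, c9_L2, c9_L3, c9_L4, c9_L5, c9_L6]

theorem c9_ok : chainOK (apT (nat_lit 9) (nat_lit 4) c9_code) (imgT (nat_lit 4)) c9_code (idc (nat_lit 9) (nat_lit 4)) (nat_lit 9) c9_lvs = true := by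
  decide +kernel

theorem c9_eng {G X : Type*} [Group G] [MulAction G X] {pt : ℕ → X} (hf : Faithful G 9 pt) :
    Calc.Eng (G := G) (Rep 9 4 pt) (idc (nat_lit 9) (nat_lit 4)) c9_code (apT (nat_lit 9) (nat_lit 4) c9_code) (topC c9_lvs) :=
  eng_perm (by decide) (by decide) hf _ _

/-- order 181440, base [0, 1, 2, 3, 4, 5, 6], orbit lengths [9, 8, 7, 6, 5, 4, 3] -/
theorem c9_chain {G X : Type*} [Group G] [MulAction G X] {pt : ℕ → X} (hi : Inj 9 pt) (hf : Faithful G 9 pt)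
    {gs : List G} (h : List.Forall₂ (Rep 9 4 pt) gs [27253752321, 32282923296, 31464104976, 18849559056, 36293665296]) :
    Chain (Rep 9 4 pt) c9_code pt c9_lvs (Subgroup.closure {s | s ∈ gs}) :=
  (c9_eng hf).chain_list (img_rep hi) le_rfl h (by decide +kernel) (.of_chainOK c9_ok)

theorem c9_ord : ordL c9_lvs = 181440 := by decide +kernel

/-- Even permutations that satisfy the relators of the quotient. -/
def y9 (c : ℕ) : Equiv.Perm (Fin 9) := lets [1, 1, 1, Equiv.swap 0 1 * Equiv.swap 3 4 * Equiv.swap 5 7 * Equiv.swap 6 8, Equiv.swap 1 2 * Equiv.swap 3 5 * Equiv.swap 4 6 * Equiv.swap 7 8, Equiv.swap 2 4 * Equiv.swap 3 4 * Equiv.swap 4 8 * Equiv.swap 5 6 * Equiv.swap 6 8 * Equiv.swap 7 8, Equiv.swap 3 7 * Equiv.swap 4 5 * Equiv.swap 5 8 * Equiv.swap 6 7, Equiv.swap 3 6 * Equiv.swap 4 5] c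

theorem y9_mem (c : ℕ) : y9 c ∈ alternatingGroup (Fin 9) := by
  by_cases h : c < 8
  · rw [Equiv.Perm.mem_alternatingGroup]; interval_cases c <;> decide +kernel
  · rw [y9, lets, List.getD_eq_default _ _ (not_lt.1 h)]; exact one_mem _

/-- A group generated by a nontrivial solution of `rQ` is the alternating group of degree nine. -/
theorem alt_of_rQ {G : Type u} [Group G] {δ : ℕ → G} (hr : ∀ t ∈ rQ, t.ev δ = 1) (ht : Top 8 δ) (h : δ 5 ≠ 1) :
    Nonempty (G ≃* alternatingGroup (Fin 9)) := by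
  let y : ℕ → alternatingGroup (Fin 9) := fun c => ⟨y9 c, y9_mem c⟩
  have h0 : Nat.card (alternatingGroup (Fin 9)) = 181440 := by
    have := two_mul_nat_card_alternatingGroup (α := Fin 9)
    rw [Nat.card_perm, Nat.card_fin, show Nat.factorial 9 = 2 * 181440 from rfl] at this
    omega
  have h1 : ∀ t ∈ rQ, t.ev y9 = 1 := by decide +kernel
  have h2 : Nat.card (closure {s | s ∈ [y9 3, y9 4, y9 5, y9 6, y9 7]}) = 181440 := by
    refine (c9_chain (inj_finPt 9) (faithful_finPt 9) ?_).card.trans c9_ord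
    simp only [List.forall₂_cons, List.forall₂_nil_left_iff, and_true, Calc.Rep]
    decide +kernel
  obtain ⟨φ, hφ⟩ := bndQ.exists_hom lt_rQ (δ := y) (fun t k => Subtype.ext ((W.map_ev (Subgroup.subtype _) y t).trans (h1 t k)))
    (fun S hS => eq_top_of_le_card _ (by
      rw [h0, ← h2, ← card_map_of_injective (K := S) (Subgroup.subtype_injective _)]
      refine card_le_of_le ((closure_le _).2 ?_)
      simp only [Set.subset_def, Set.mem_ofPred_eq, List.forall_mem_cons]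
      exact ⟨⟨_, hS 3 (by decide), rfl⟩, ⟨_, hS 4 (by decide), rfl⟩, ⟨_, hS 5 (by decide), rfl⟩, ⟨_, hS 6 (by decide), rfl⟩,
        ⟨_, hS 7 (by decide), rfl⟩, by simp⟩)) h0.ge hr
  have := alternatingGroup.isSimpleGroup (α := Fin 9) (by simp)
  exact ⟨(MulEquiv.ofBijective φ ⟨(MonoidHom.ker_eq_bot_iff φ).1 (φ.normal_ker.eq_bot_or_eq_top.resolve_right fun e =>
    h ((hφ 5 (by decide)).symm.trans (e.ge (mem_top _)))), ht.surjective hφ⟩).symm⟩

end Cfsg.Lib.Th
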