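import Cfsg.Agent.Lib.T2.Fm
import Cfsg.Agent.Lib.Th.V8

/-! A permutation model of the alternating group of degree nine -/

set_option autoImplicit false
set_option maxRecDepth 100000

namespace Cfsg.Lib.ThU

open Cfsg.Lib.Calc Cfsg.Lib.T2 Cfsg.Lib.Th Cfsg.Lib.Grp

def a9m_L0 : List (ℕ × List ℕ) := [((nat_lit 0), [(nat_lit 36344967696), (nat_lit 27253752321), (nat_lit 18111357186), (nat_lit 34988241156), (nat_lit 10339438851), (nat_lit 30392209926), (nat_lit 31244624136), (nat_lit 17857474821), (nat_lit 9468018951)]),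
  ((nat_lit 1), [(nat_lit 36344967696), (nat_lit 32282923296), (nat_lit 23490421056), (nat_lit 35473682736), (nat_lit 27233759616), (nat_lit 19195638096), (nat_lit 15151219296), (nat_lit 19367539056)]),
  ((nat_lit 2), [(nat_lit 36344967696), (nat_lit 31464104976), (nat_lit 19418735376), (nat_lit 35287877136), (nat_lit 23122626576), (nat_lit 15122835216), (nat_lit 18932245776)]),
  ((nat_lit 3), [(nat_lit 36344967696), (nat_lit 22652940816), (nat_lit 18094707216), (nat_lit 15140733456), (nat_lit 14570324496), (nat_lit 31482667536)]),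
  ((nat_lit 4), [(nat_lit 36344967696), (nat_lit 18883228176), (nat_lit 27721740816), (nat_lit 19198784016), (nat_lit 31279362576)]),
  ((nat_lit 5), [(nat_lit 36344967696), (nat_lit 23730598416), (nat_lit 23211553296), (nat_lit 35825922576)]),
  ((nat_lit 6), [(nat_lit 36344967696), (nat_lit 31815119376), (nat_lit 28040245776)])]

def a9m_D0 : List ℕ := [(nat_lit 0), (nat_lit 513), (nat_lit 58370), (nat_lit 75266), (nat_lit 83714), (nat_lit 102402), (nat_lit 112130), (nat_lit 121858), (nat_lit 145410), (nat_lit 0), (nat_lit 1025), (nat_lit 280066), (nat_lit 296706), (nat_lit 332290), (nat_lit 350722), (nat_lit 366594), (nat_lit 792110852), (nat_lit 0), (nat_lit 1537), (nat_lit 1793), (nat_lit 26382595), (nat_lit 665090), (nat_lit 2283276036), (nat_lit 773890), (nat_lit 0), (nat_lit 51279619), (nat_lit 52557059), (nat_lit 4621238020), (nat_lit 5054705924), (nat_lit 5863187716),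 (nat_lit 0), (nat_lit 527410050821), (nat_lit 7272161540), (nat_lit 6815194884), (nat_lit 64431075611910), (nat_lit 0), (nat_lit 80049988427526), (nat_lit 92486992026374), (nat_lit 0x23d90cffbf4907), (nat_lit 0), (nat_lit 0x2fdff197b1a707), (nat_lit 0x2ecdead2851d07)]

def a9m_L1 : List (ℕ × List ℕ) := [((nat_lit 3), [(nat_lit 36344967696), (nat_lit 22402327056), (nat_lit 32282923296), (nat_lit 18910549296), (nat_lit 18849559056), (nat_lit 14368063776), (nat_lit 22355018256), (nat_lit 26979279696)]),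
  ((nat_lit 4), [(nat_lit 36344967696), (nat_lit 26966765856), (nat_lit 18812647536), (nat_lit 18930413856), (nat_lit 32285012496), (nat_lit 36277663296)]),
  ((nat_lit 1), [(nat_lit 36344967696), (nat_lit 4938020736), (nat_lit 32318435616), (nat_lit 8964552816)])]

def a9m_D1 : List ℕ := [(nat_lit 0), (nat_lit 513), (nat_lit 1025), (nat_lit 2049), (nat_lit 769), (nat_lit 79874), (nat_lit 88578), (nat_lit 108546), (nat_lit 0), (nat_lit 5150979), (nat_lit 4739843), (nat_lit 6020355), (nat_lit 365714692), (nat_lit 457746692), (nat_lit 0), (nat_lit 577150724), (nat_lit 36946435333), (nat_lit 2258624478982)]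

def a9m_L2 : List (ℕ × List ℕ) := [((nat_lit 1), [(nat_lit 36344967696), (nat_lit 32282923296)]),
  ((nat_lit 3), [(nat_lit 36344967696), (nat_lit 32316346896)]),
  ((nat_lit 4), [(nat_lit 36344967696), (nat_lit 32285012496)])]

def a9m_D2 : List ℕ := [(nat_lit 0), (nat_lit 513), (nat_lit 0), (nat_lit 1025), (nat_lit 0), (nat_lit 31490)]

def a9m_L3 : List (ℕ × List ℕ) := [((nat_lit 1), [(nat_lit 36344967696), (nat_lit 32282923296), (nat_lit 18910549296), (nat_lit 14268073536), (nat_lit 26979279696), (nat_lit 22305469536), (nat_lit 4922230656), (nat_lit 8913250416)])]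

def a9m_D3 : List ℕ := [(nat_lit 0), (nat_lit 513), (nat_lit 1025), (nat_lit 1537), (nat_lit 41986), (nat_lit 47618), (nat_lit 62978), (nat_lit 91650)]

def a9m_L4 : List (ℕ × List ℕ) := [((nat_lit 1), [(nat_lit 36344967696), (nat_lit 32282923296), (nat_lit 22322181696), (nat_lit 4886718336), (nat_lit 14251361376), (nat_lit 8948762736), (nat_lit 18909504336), (nat_lit 26980324656)])]

def a9m_D4 : List ℕ := [(nat_lit 0), (nat_lit 513), (nat_lit 1025), (nat_lit 1537), (nat_lit 41986), (nat_lit 47618), (nat_lit 62978), (nat_lit 91650)]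

def a9m_L5 : List (ℕ × List ℕ) := [((nat_lit 1), [(nat_lit 36344967696), (nat_lit 32282923296), (nat_lit 30657503616), (nat_lit 36293665026), (nat_lit 34715615856)]),
  ((nat_lit 3), [(nat_lit 36344967696), (nat_lit 34951487511), (nat_lit 10542602256), (nat_lit 32302645266)]),
  ((nat_lit 0), [(nat_lit 36344967696), (nat_lit 30706839576), (nat_lit 34465920786), (nat_lit 35002789911)]),
  ((nat_lit 2), [(nat_lit 36344967696), (nat_lit 30707824656), (nat_lit 10843600656)]),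
  ((nat_lit 4), [(nat_lit 36344967696), (nat_lit 32317452816)])]

def a9m_D5 : List ℕ := [(nat_lit 0), (nat_lit 513), (nat_lit 44546), (nat_lit 51202), (nat_lit 65026), (nat_lit 0), (nat_lit 2279171), (nat_lit 1537), (nat_lit 2049), (nat_lit 0), (nat_lit 201218), (nat_lit 6346499), (nat_lit 6577923), (nat_lit 0), (nat_lit 431095556), (nat_lit 560207620), (nat_lit 0), (nat_lit 16154115)]

def a9m_L6 : List (ℕ × List ℕ) := [((nat_lit 3), [(nat_lit 36344967696), (nat_lit 36293665296), (nat_lit 36329177616), (nat_lit 36309455376)])]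

def a9m_D6 : List ℕ := [(nat_lit 0), (nat_lit 513), (nat_lit 1025), (nat_lit 25602)]

def a9m_L7 : List (ℕ × List ℕ) := [((nat_lit 1), [(nat_lit 36344967696), (nat_lit 32282923296), (nat_lit 23490421056), (nat_lit 35473682736), (nat_lit 15151219296), (nat_lit 27233759616), (nat_lit 36040028496), (nat_lit 18559295856)]),
  ((nat_lit 2), [(nat_lit 36344967696), (nat_lit 31464104976), (nat_lit 19418735376), (nat_lit 23122626576), (nat_lit 31242855696), (nat_lit 23696913936), (nat_lit 26644678416)]),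
  ((nat_lit 3), [(nat_lit 36344967696), (nat_lit 22355018256), (nat_lit 36293665296), (nat_lit 14302999056), (nat_lit 32316346896), (nat_lit 22421127696)]),
  ((nat_lit 4), [(nat_lit 36344967696), (nat_lit 26983477776), (nat_lit 18913702416), (nat_lit 32285012496)])]

def a9m_D7 : List ℕ := [(nat_lit 0), (nat_lit 513), (nat_lit 44034), (nat_lit 50434), (nat_lit 65026), (nat_lit 72706), (nat_lit 80386), (nat_lit 99842), (nat_lit 0), (nat_lit 1025), (nat_lit 1281), (nat_lit 230402), (nat_lit 245762), (nat_lit 278530), (nat_lit 312322), (nat_lit 0), (nat_lit 17212163), (nat_lit 2049), (nat_lit 18486531), (nat_lit 1211556612), (nat_lit 1432380164), (nat_lit 0), (nat_lit 31474435), (nat_lit 37056259), (nat_lit 2736973572)]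

def a9m_L8 : List (ℕ × List ℕ) := [((nat_lit 2), [(nat_lit 36344967696), (nat_lit 31464104976), (nat_lit 19418735376), (nat_lit 23122626576), (nat_lit 9789724176), (nat_lit 18076557696), (nat_lit 26644678416), (nat_lit 13560608016)]),
  ((nat_lit 1), [(nat_lit 36344967696), (nat_lit 13292171856), (nat_lit 6280217136), (nat_lit 26643628656), (nat_lit 14870123136), (nat_lit 31464100416), (nat_lit 35233559136)]),
  ((nat_lit 3), [(nat_lit 36344967696), (nat_lit 32267194896), (nat_lit 32282862096), (nat_lit 36329177616), (nat_lit 36040962576), (nat_lit 27719467536)]),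
  ((nat_lit 4), [(nat_lit 36344967696), (nat_lit 23744360976), (nat_lit 31751221776), (nat_lit 18663027216), (nat_lit 23459279376)]),
  ((nat_lit 5), [(nat_lit 36344967696), (nat_lit 23730598416), (nat_lit 31516275216), (nat_lit 23494668816)]),
  ((nat_lit 6), [(nat_lit 36344967696), (nat_lit 28040245776), (nat_lit 31815119376)])]

def a9m_D8 : List ℕ := [(nat_lit 0), (nat_lit 513), (nat_lit 769), (nat_lit 25090), (nat_lit 36610), (nat_lit 42242), (nat_lit 55810), (nat_lit 72450), (nat_lit 0), (nat_lit 1502467), (nat_lit 1025), (nat_lit 2447107), (nat_lit 1281), (nat_lit 203984132), (nat_lit 305452292), (nat_lit 0), (nat_lit 16155928837), (nat_lit 17238136581), (nat_lit 1295453748486), (nat_lit 884230404), (nat_lit 1009786628), (nat_lit 0), (nat_lit 186416136677127), (nat_lit 225249434594055), (nat_lit 0x3defed4300b308), (nat_lit 2267230468), (nat_lit 0), (nat_lit 173854707973),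 (nat_lit 198172202757), (nat_lit 4051785988), (nat_lit 0), (nat_lit 28485891), (nat_lit 30201603)]

def a9m : PM :=
  ⟨(nat_lit 9), (nat_lit 4), [(nat_lit 36344967696), (nat_lit 36344967696), (nat_lit 27253752321), (nat_lit 32282923296), (nat_lit 31464104976), (nat_lit 18849559056), (nat_lit 36293665296), (nat_lit 2253664626), (nat_lit 36329177616), (nat_lit 36342940176), (nat_lit 36344967201), (nat_lit 36344906241), (nat_lit 36089955651), (nat_lit 34732328736), (nat_lit 14587281441), (nat_lit 26072275011), (nat_lit 26962568496), (nat_lit 32297395776), (nat_lit 14296684656), (nat_lit 17856623376), (nat_lit 14632186176), (nat_lit 27182727456), (nat_lit 6280217136)],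
    [[.l 3, .l 4, .l 5, .l 6, .l 7],
    [.inv (.l 6), .l 4, .l 7, .mul (.mul (.inv (.l 5)) (.l 4)) (.l 5), .mul (.mul (.mul (.inv (.l 5)) (.inv (.l 6))) (.l 7)) (.l 5)],
    [.l 4, .mul (.mul (.mul (.l 5) (.l 6)) (.l 7)) (.inv (.l 5)), .mul (.mul (.mul (.mul (.l 5) (.l 5)) (.l 7)) (.inv (.l 5))) (.l 6)],
    [.l 4, .mul (.mul (.inv (.l 5)) (.l 4)) (.l 5), .mul (.mul (.l 5) (.l 4)) (.inv (.l 5))],
    [.l 4, .mul (.mul (.mul (.mul (.l 5) (.l 4)) (.l 6)) (.l 7)) (.inv (.l 5)), .mul (.mul (.mul (.mul (.mul (.l 5) (.l 5)) (.l 4)) (.l 7)) (.inv (.l 5))) (.l 6)],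
    [.l 4, .l 7, .mul (.mul (.mul (.inv (.l 5)) (.inv (.l 6))) (.l 7)) (.inv (.l 5)), .mul (.mul (.mul (.l 3) (.l 4)) (.l 7)) (.l 3)],
    [.l 7, .l 9],
    [.l 4, .l 5, .l 6, .l 7],
    [.l 5, .l 23]],
    [a9m_L0, a9m_L1, a9m_L2, a9m_L3, a9m_L4, a9m_L5, a9m_L6, a9m_L7, a9m_L8], [a9m_D0, a9m_D1, a9m_D2, a9m_D3, a9m_D4, a9m_D5, a9m_D6, a9m_D7, a9m_D8]⟩

instance a9m_ne : NeZero a9m.n := ⟨by decide⟩

theorem a9m_ok0 : a9m.ok0 = true := by decide +kernel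

theorem a9m_k0 : allFrom (nat_lit 0) (nat_lit 1) a9m.okK = true := by decide +kernel

theorem a9m_k1 : allFrom (nat_lit 1) (nat_lit 1) a9m.okK = true := by decide +kernel

theorem a9m_k2 : allFrom (nat_lit 2) (nat_lit 1) a9m.okK = true := by decide +kernel

theorem a9m_k3 : allFrom (nat_lit 3) (nat_lit 1) a9m.okK = true := by decide +kernel

theorem a9m_k4 : allFrom (nat_lit 4) (nat_lit 1) a9m.okK = true := by decide +kernel

theorem a9m_k5 : allFrom (nat_lit 5) (nat_lit 1) a9m.okK = true := by decide +kernel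

theorem a9m_k6 : allFrom (nat_lit 6) (nat_lit 1) a9m.okK = true := by decide +kernel

theorem a9m_k7 : allFrom (nat_lit 7) (nat_lit 1) a9m.okK = true := by decide +kernel

theorem a9m_k8 : allFrom (nat_lit 8) (nat_lit 1) a9m.okK = true := by decide +kernel

theorem a9m_ok : a9m.OK := PM.OK.of_check a9m_ok0
  (of_allFrom_append (of_allFrom_append (of_allFrom_append (of_allFrom_append (of_allFrom_append (of_allFrom_append (of_allFrom_append (of_allFrom_append (of_allFrom_append of_lt_zero a9m_k0) a9m_k1) a9m_k2) a9m_k3) a9m_k4) a9m_k5) a9m_k6) a9m_k7) a9m_k8)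

theorem a9m_card0 : Nat.card (genW a9m.gam (a9m.ws 0)) = 181440 := (a9m_ok.card 0).trans (by decide +kernel)

theorem a9m_card1 : Nat.card (genW a9m.gam (a9m.ws 1)) = 192 := (a9m_ok.card 1).trans (by decide +kernel)

theorem a9m_card2 : Nat.card (genW a9m.gam (a9m.ws 2)) = 8 := (a9m_ok.card 2).trans (by decide +kernel)

theorem a9m_card3 : Nat.card (genW a9m.gam (a9m.ws 3)) = 8 := (a9m_ok.card 3).trans (by decide +kernel)

theorem a9m_card4 : Nat.card (genW a9m.gam (a9m.ws 4)) = 8 := (a9m_ok.card 4).trans (by decide +kernel)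

theorem a9m_card5 : Nat.card (genW a9m.gam (a9m.ws 5)) = 480 := (a9m_ok.card 5).trans (by decide +kernel)

theorem a9m_card6 : Nat.card (genW a9m.gam (a9m.ws 6)) = 4 := (a9m_ok.card 6).trans (by decide +kernel)

theorem a9m_card7 : Nat.card (genW a9m.gam (a9m.ws 7)) = 1344 := (a9m_ok.card 7).trans (by decide +kernel)

theorem a9m_card8 : Nat.card (genW a9m.gam (a9m.ws 8)) = 20160 := (a9m_ok.card 8).trans (by decide +kernel)

theorem a9f1_ev : a9m.eval (.all 0 40 [(.l 4, .l 4)] (.mem 1 (.l 40))) = true := by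
  decide +kernel

theorem a9f1 {G : Type*} [Group G] {γ : ℕ → G} (h : IsoW a9m.gam γ) :
    ∀ z ∈ genW γ (a9m.ws 0), z * γ 4 = γ 4 * z → z ∈ genW γ (a9m.ws 1) :=
  a9m_ok.transfer h a9f1_ev

theorem a9f2_ev : a9m.eval (.all 1 40 [] (.imp (.not (.one (.l 40))) (.imp (.not (.eq (.l 40) (.l 4))) (.or (.all 1 41 [(.l 40, .l 40), (.mul (.mul (.l 6) (.l 40)) (.inv (.l 6)), .mul (.mul (.l 6) (.l 40)) (.inv (.l 6))), (.mul (.mul (.inv (.l 6)) (.l 40)) (.inv (.inv (.l 6))), .mul (.mul (.inv (.l 6)) (.l 40)) (.inv (.inv (.l 6)))), (.mul (.mul (.l 7) (.l 40)) (.inv (.l 7)), .mul (.mul (.l 7) (.l 40)) (.inv (.l 7))), (.mul (.mul (.mul (.mul (.mul (.inv (.l 5)) (.inv (.l 6))) (.l 7)) (.l 5)) (.l 40)) (.inv (.mul (.mul (.mul (.inv (.l 5)) (.inv (.l 6))) (.l 7)) (.l 5))), .mul (.mul (.mul (.mul (.mul (.inv (.l 5)) (.inv (.l 6))) (.l 7)) (.l 5)) (.l 40)) (.inv (.mul (.mul (.mul (.inv (.l 5)) (.inv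 (.l 6))) (.l 7)) (.l 5))))] (.mem 2 (.l 41))) (.or (.all 1 41 [(.l 40, .l 40), (.mul (.mul (.l 6) (.l 40)) (.inv (.l 6)), .mul (.mul (.l 6) (.l 40)) (.inv (.l 6))), (.mul (.mul (.inv (.l 6)) (.l 40)) (.inv (.inv (.l 6))), .mul (.mul (.inv (.l 6)) (.l 40)) (.inv (.inv (.l 6)))), (.mul (.mul (.l 7) (.l 40)) (.inv (.l 7)), .mul (.mul (.l 7) (.l 40)) (.inv (.l 7))), (.mul (.mul (.mul (.mul (.mul (.inv (.l 5)) (.inv (.l 6))) (.l 7)) (.l 5)) (.l 40)) (.inv (.mul (.mul (.mul (.inv (.l 5)) (.inv (.l 6))) (.l 7)) (.l 5))), .mul (.mul (.mul (.mul (.mul (.inv (.l 5)) (.inv (.l 6))) (.l 7)) (.l 5)) (.l 40)) (.inv (.mul (.mul (.mul (.inv (.l 5)) (.inv (.l 6))) (.l 7)) (.l 5))))] (.mem 3 (.l 41))) (.all 1 41 [(.l 40, .l 40), (.mul (.mul (.l 6) (.l 40)) (.inv (.l 6)), .mul (.mul (.l 6) (.l 40)) (.inv (.l 6))), (.mul (.mul (.inv (.l 6)) (.l 40)) (.inv (.inv (.l 6))), .mul (.mul (.inv (.l 6)) (.l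 40)) (.inv (.inv (.l 6)))), (.mul (.mul (.l 7) (.l 40)) (.inv (.l 7)), .mul (.mul (.l 7) (.l 40)) (.inv (.l 7))), (.mul (.mul (.mul (.mul (.mul (.inv (.l 5)) (.inv (.l 6))) (.l 7)) (.l 5)) (.l 40)) (.inv (.mul (.mul (.mul (.inv (.l 5)) (.inv (.l 6))) (.l 7)) (.l 5))), .mul (.mul (.mul (.mul (.mul (.inv (.l 5)) (.inv (.l 6))) (.l 7)) (.l 5)) (.l 40)) (.inv (.mul (.mul (.mul (.inv (.l 5)) (.inv (.l 6))) (.l 7)) (.l 5))))] (.mem 4 (.l 41)))))))) = true := by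
  decide +kernel

theorem a9f2 {G : Type*} [Group G] {γ : ℕ → G} (h : IsoW a9m.gam γ) :
    ∀ w ∈ genW γ (a9m.ws 1), w ≠ 1 → w ≠ γ 4 → (∀ z ∈ genW γ (a9m.ws 1), z * w = w * z → z * (γ 6 * w * (γ 6)⁻¹) = γ 6 * w * (γ 6)⁻¹ * z → z * ((γ 6)⁻¹ * w * (γ 6)⁻¹⁻¹) = (γ 6)⁻¹ * w * (γ 6)⁻¹⁻¹ * z → z * (γ 7 * w * (γ 7)⁻¹) = γ 7 * w * (γ 7)⁻¹ * z → z * ((γ 5)⁻¹ * (γ 6)⁻¹ * γ 7 * γ 5 * w * ((γ 5)⁻¹ * (γ 6)⁻¹ * γ 7 * γ 5)⁻¹) = (γ 5)⁻¹ * (γ 6)⁻¹ * γ 7 * γ 5 * w * ((γ 5)⁻¹ * (γ 6)⁻¹ * γ 7 * γ 5)⁻¹ * z → z ∈ genW γ (a9m.ws 2)) ∨ (∀ z ∈ genW γ (a9m.ws 1), z * w = w * z → z * (γ 6 * w * (γ 6)⁻¹) = γ 6 * w * (γ 6)⁻¹ * z → z * ((γ 6)⁻¹ * w * (γ 6)⁻¹⁻¹) = (γ 6)⁻¹ * w * (γ 6)⁻¹⁻¹ * z → z * (γ 7 * w * (γ 7)⁻¹) = γ 7 * w * (γ 7)⁻¹ * z → z * ((γ 5)⁻¹ * (γ 6)⁻¹ * γ 7 * γ 5 * w * ((γ 5)⁻¹ * (γ 6)⁻¹ * γ 7 * γ 5)⁻¹) = (γ 5)⁻¹ * (γ 6)⁻¹ * γ 7 * γ 5 * w * ((γ 5)⁻¹ * (γ 6)⁻¹ * γ 7 * γ 5)⁻¹ * z → z ∈ genW γ (a9m.ws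 3)) ∨ (∀ z ∈ genW γ (a9m.ws 1), z * w = w * z → z * (γ 6 * w * (γ 6)⁻¹) = γ 6 * w * (γ 6)⁻¹ * z → z * ((γ 6)⁻¹ * w * (γ 6)⁻¹⁻¹) = (γ 6)⁻¹ * w * (γ 6)⁻¹⁻¹ * z → z * (γ 7 * w * (γ 7)⁻¹) = γ 7 * w * (γ 7)⁻¹ * z → z * ((γ 5)⁻¹ * (γ 6)⁻¹ * γ 7 * γ 5 * w * ((γ 5)⁻¹ * (γ 6)⁻¹ * γ 7 * γ 5)⁻¹) = (γ 5)⁻¹ * (γ 6)⁻¹ * γ 7 * γ 5 * w * ((γ 5)⁻¹ * (γ 6)⁻¹ * γ 7 * γ 5)⁻¹ * z → z ∈ genW γ (a9m.ws 4)) :=
  a9m_ok.transfer h a9f2_ev

theorem a9f3_ev : a9m.eval (.all 0 40 [(.l 7, .l 7)] (.mem 5 (.l 40))) = true := by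
  decide +kernel

theorem a9f3 {G : Type*} [Group G] {γ : ℕ → G} (h : IsoW a9m.gam γ) :
    ∀ z ∈ genW γ (a9m.ws 0), z * γ 7 = γ 7 * z → z ∈ genW γ (a9m.ws 5) :=
  a9m_ok.transfer h a9f3_ev

theorem a9f4_ev : a9m.eval (.all 5 40 [] (.imp (.one (.mul (.l 40) (.l 40))) (.imp (.eq (.mul (.l 40) (.mul (.mul (.l 8) (.l 40)) (.inv (.l 8)))) (.mul (.mul (.mul (.l 8) (.l 40)) (.inv (.l 8))) (.l 40))) (.imp (.eq (.mul (.l 40) (.mul (.mul (.mul (.l 8) (.l 8)) (.l 40)) (.inv (.mul (.l 8) (.l 8))))) (.mul (.mul (.mul (.mul (.l 8) (.l 8)) (.l 40)) (.inv (.mul (.l 8) (.l 8)))) (.l 40))) (.mem 6 (.l 40)))))) = true := by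
  decide +kernel

theorem a9f4 {G : Type*} [Group G] {γ : ℕ → G} (h : IsoW a9m.gam γ) :
    ∀ z ∈ genW γ (a9m.ws 5), z * z = 1 → z * (γ 8 * z * (γ 8)⁻¹) = γ 8 * z * (γ 8)⁻¹ * z → z * (γ 8 * γ 8 * z * (γ 8 * γ 8)⁻¹) = γ 8 * γ 8 * z * (γ 8 * γ 8)⁻¹ * z → z ∈ genW γ (a9m.ws 6) :=
  a9m_ok.transfer h a9f4_ev

theorem a9f5_ev : a9m.eval (.all 7 40 [] (.imp (.one (.mul (.l 40) (.l 40))) (.imp (.eq (.mul (.l 40) (.mul (.mul (.l 5) (.l 40)) (.inv (.l 5)))) (.mul (.mul (.mul (.l 5) (.l 40)) (.inv (.l 5))) (.l 40))) (.mem 3 (.l 40))))) = true := by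
  decide +kernel

theorem a9f5 {G : Type*} [Group G] {γ : ℕ → G} (h : IsoW a9m.gam γ) :
    ∀ z ∈ genW γ (a9m.ws 7), z * z = 1 → z * (γ 5 * z * (γ 5)⁻¹) = γ 5 * z * (γ 5)⁻¹ * z → z ∈ genW γ (a9m.ws 3) :=
  a9m_ok.transfer h a9f5_ev

theorem a9f6_ev : a9m.eval (.all 7 40 [] (.imp (.mem 7 (.mul (.mul (.inv (.l 20)) (.l 40)) (.l 20))) (.imp (.mem 7 (.mul (.mul (.inv (.l 21)) (.l 40)) (.l 21))) (.imp (.mem 7 (.mul (.mul (.inv (.l 22)) (.l 40)) (.l 22))) (.one (.l 40)))))) = true := by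
  decide +kernel

theorem a9f6 {G : Type*} [Group G] {γ : ℕ → G} (h : IsoW a9m.gam γ) :
    ∀ z ∈ genW γ (a9m.ws 7), (γ 20)⁻¹ * z * γ 20 ∈ genW γ (a9m.ws 7) → (γ 21)⁻¹ * z * γ 21 ∈ genW γ (a9m.ws 7) → (γ 22)⁻¹ * z * γ 22 ∈ genW γ (a9m.ws 7) → z = 1 :=
  a9m_ok.transfer h a9f6_ev

theorem a9f7_ev : a9m.eval (.all 0 40 [(.l 5, .l 5), (.l 6, .l 6)] (.one (.l 40))) = true := by
  decide +kernel

theorem a9f7 {G : Type*} [Group G] {γ : ℕ → G} (h : IsoW a9m.gam γ) :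
    ∀ z ∈ genW γ (a9m.ws 0), z * γ 5 = γ 5 * z → z * γ 6 = γ 6 * z → z = 1 :=
  a9m_ok.transfer h a9f7_ev

theorem a9f8_ev : a9m.eval (.all 0 40 [(.l 8, .l 8)] (.imp (.one (.pow (.l 40) 3)) (.imp (.not (.one (.l 40))) (.all 0 41 [(.l 40, .l 40), (.l 8, .inv (.l 8))] (.imp (.one (.mul (.l 41) (.l 41))) (.ex 0 42 [(.l 7, .l 41)] (.tt))))))) = true := by
  decide +kernel

theorem a9f8 {G : Type*} [Group G] {γ : ℕ → G} (h : IsoW a9m.gam γ) :
    ∀ w ∈ genW γ (a9m.ws 0), w * γ 8 = γ 8 * w → w ^ 3 = 1 → w ≠ 1 → ∀ z ∈ genW γ (a9m.ws 0), z * w = w * z → z * γ 8 = (γ 8)⁻¹ * z → z * z = 1 → ∃ c ∈ genW γ (a9m.ws 0), c * γ 7 = z * c ∧ True :=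
  a9m_ok.transfer h a9f8_ev

theorem a9f9_ev : a9m.eval (.and (.mem 8 (.l 4)) (.and (.mem 8 (.l 6)) (.mem 8 (.l 7)))) = true := by
  decide +kernel

theorem a9f9 {G : Type*} [Group G] {γ : ℕ → G} (h : IsoW a9m.gam γ) :
    γ 4 ∈ genW γ (a9m.ws 8) ∧ γ 6 ∈ genW γ (a9m.ws 8) ∧ γ 7 ∈ genW γ (a9m.ws 8) :=
  a9m_ok.transfer h a9f9_ev

theorem a9f10_ev : a9m.eval (.all 3 40 [] (.imp (.not (.one (.l 40))) (.ex 7 41 [(.l 4, .l 40)] (.tt)))) = true := by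
  decide +kernel

theorem a9f10 {G : Type*} [Group G] {γ : ℕ → G} (h : IsoW a9m.gam γ) :
    ∀ z ∈ genW γ (a9m.ws 3), z ≠ 1 → ∃ c ∈ genW γ (a9m.ws 7), c * γ 4 = z * c ∧ True :=
  a9m_ok.transfer h a9f10_ev

/-- Words for the letters. -/
def labs : List W := [.l 0, .l 1, .l 2, .l 3, .l 4, .l 5, .l 6, .l 7, .mul (.mul (.mul (.mul (.mul (.mul (.mul (.mul (.mul (.l 4) (.l 3)) (.inv (.l 5))) (.inv (.l 5))) (.l 4)) (.l 3)) (.l 7)) (.l 3)) (.inv (.l 5))) (.l 6), .mul (.mul (.mul (.mul (.mul (.l 5) (.l 5)) (.l 5)) (.l 7)) (.l 5)) (.inv (.l 6)), .mul (.mul (.mul (.mul (.mul (.mul (.mul (.mul (.l 5) (.l 7)) (.l 3)) (.l 5)) (.inv (.l 6))) (.l 7)) (.l 3)) (.inv (.l 5))) (.inv (.l 6)), .mul (.mul (.mul (.mul (.mul (.l 3) (.l 4)) (.l 3)) (.l 7)) (.l 3)) (.l 7), .mul (.mul (.mul (.mul (.mul (.mul (.mul (.mul (.mul (.l 3) (.l 4)) (.l 3)) (.l 5)) (.l 5)) (.l 7)) (.l 3)) (.l 5)) (.l 4)) (.l 6), .mul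 (.mul (.mul (.mul (.mul (.mul (.mul (.mul (.mul (.mul (.l 3) (.l 5)) (.l 4)) (.inv (.l 6))) (.l 5)) (.l 7)) (.l 3)) (.l 7)) (.l 5)) (.l 4)) (.inv (.l 5)), .mul (.mul (.mul (.l 4) (.l 5)) (.l 5)) (.l 6), .mul (.mul (.mul (.mul (.mul (.mul (.inv (.l 5)) (.l 7)) (.l 3)) (.inv (.l 5))) (.l 7)) (.l 5)) (.l 4), .mul (.mul (.mul (.mul (.mul (.mul (.mul (.mul (.mul (.mul (.l 5) (.l 4)) (.l 5)) (.l 7)) (.l 3)) (.l 4)) (.inv (.l 5))) (.l 7)) (.l 3)) (.l 5)) (.l 6), .mul (.mul (.mul (.mul (.mul (.l 5) (.l 7)) (.inv (.l 5))) (.l 4)) (.inv (.l 5))) (.inv (.l 6)), .mul (.mul (.mul (.l 5) (.l 4)) (.inv (.l 5))) (.inv (.l 6)), .mul (.mul (.mul (.mul (.mul (.mul (.l 4) (.l 5)) (.l 5)) (.l 4)) (.l 7)) (.inv (.l 5))) (.inv (.l 6)), .mul (.mul (.mul (.mul (.mul (.l 5) (.l 7)) (.l 3)) (.l 5)) (.l 7)) (.l 3), .mul (.mul (.mul (.mul (.l 5) (.l 4)) (.l 3)) (.l 7)) (.l 3), .mul (.mul (.mul (.l 4) (.l 3))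 (.l 7)) (.l 3), .mul (.mul (.mul (.mul (.mul (.mul (.mul (.mul (.inv (.l 5)) (.l 4)) (.l 3)) (.l 6)) (.inv (.l 5))) (.l 7)) (.l 3)) (.l 5)) (.l 7)]

end Cfsg.Lib.ThU
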