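import Cfsg.Agent.Lib.Th.UI

/-!
# The spin module with its quadratic form
-/

set_option autoImplicit false
set_option maxRecDepth 100000

namespace Cfsg.Lib.ThU

open QuadraticMap Module Submodule Cfsg.Lib.Orth Cfsg.Lib.Th Cfsg.Lib.Calc Cfsg.Lib.F2 Cfsg.Lib.Big Cfsg.Lib.T2

theorem card_V8 : Nat.card V8 = 256 := by
  rw [show Nat.card V8 = Nat.card (Fin 8 → ZMod 2) from rfl, Nat.card_fun, Nat.card_zmod, Nat.card_fin]; rfl

theorem vc_zero : vc 0 = 0 := vc_cd 0 ▸ congrArg vc cd_zero.symm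

theorem vc_inj {a b : ℕ} (ha : a < 256) (hb : b < 256) (e : vc a = vc b) : a = b := by
  rw [← cd_vc ha, e, cd_vc hb]

theorem vc_ne {a : ℕ} (h : a < 256 ∧ a ≠ 0) : vc a ≠ 0 := fun e => h.2 (vc_inj h.1 (by decide) (e.trans vc_zero.symm))

/-- The matrix of a word in the named elements. -/
noncomputable def mg (t : W) : ℕ := m8 (t.subst labs)

theorem cd_g (t : W) (v : V8) : cd (t.ev ga • v) = app 8 (mg t) (cd v) := by rw [ga_eq, ← W.ev_subst, cd_smul, mg]

theorem g_vc (t : W) {a b : ℕ} (h : a < 256 ∧ app 8 (mg t) a = b) : t.ev ga • vc a = vc b := by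
  rw [ga_eq, ← W.ev_subst]; exact smul_vc _ h.1 h.2

theorem fpf_of {k : ℕ} (h : ∀ c < 256, app 8 (mg (.l k)) c = c → c = 0) (v : V8) (e : ga k • v = v) : v = 0 :=
  cd_inj ((h _ (cd_lt v) ((cd_g (.l k) v).symm.trans (congrArg cd e))).trans cd_zero.symm)

/-- The action by linear maps. -/
noncomputable def τ8 : A9 →* End (ZMod 2) V8 where
  toFun g := (DistribSMul.toAddMonoidHom V8 g).toZModLinearMap 2
  map_one' := LinearMap.ext (one_smul _)
  map_mul' a b := LinearMap.ext (mul_smul a b)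

theorem QM.exists_std {V : Type*} [AddCommGroup V] [Module (ZMod 2) V] {q : QuadraticForm (ZMod 2) V} {σ : A9 →* O q}
    (h : QM σ) (hS : O.fix (σ 𝐟) = ⊥) :
    ∃ (β : MulAut A9) (e : V ≃ₗ[ZMod 2] V8), ∀ g v, e ((σ (β g)).1 v) = g • e v :=
  have := h.fin
  exists_iso' (τ := (LinearEquiv.automorphismGroup.toLinearMapMonoidHom.comp (O q).subtype).comp σ) (τ' := τ8)
    (fun _ e => (h.S_p hS).le (O.mem_fix.2 e)) (fpf_of (by decide +kernel)) h.h8
    (Nat.pow_right_injective le_rfl ((U6.card_pow V8).symm.trans card_V8))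

/-- The values of the quadratic form. -/
def qb (c : ℕ) : Bool := Nat.testBit (nat_lit 0x5a5af0f06969c3c3aaaa0000999933335aa5f00f6996c33caa5500ff996633cc) c

/-- A spanning forest of the orbits. -/
def orbT (c : ℕ) : ℕ := get 16 (nat_lit 0x2e3123633e332361337737532f512f50253725363e711b6d375b375a3758355a25e71e201ce61fe623762ceb3d8b44e91d2715262661236c337a3ce32eeb2feb2f732b452e5d34952b512776335325f4377a2b49361f2d782b5d2f7f335f2d342fc12b443b5647c32b5033402de52de42d4937c937cb3fca3c8347cd25252524371c367a371f25763718351a371b371a2d9735962f162cbc271117101f121f133bb844a535673d662bbc36e03ee346e233b43cad3bb647a523b02ca31bb224a134d63d38373a2e162cd83cd92f3e355427302f312b912f322f3435b4273727363f8b452826072e0634cb3cca2e8d2f8d3b923f832e452e44339643862cc12cc02437243635532efc37d62d3e351f26762db31db22fd83fd92637263635df23ed25631be614261f623bf23f65366733e02da335a233f8476b1f6d16261c2023ec2ff72bc127f43c552d512d50345a2d702ffe37ff33df2dfc2d912d9025b125b02d0d2c4433d23d2c2d41354025612d603c4d3f4d25ed25ec2e492f4925a12da035d32476379b3eb6379c2e3e3f9f347a1d131d123b3326f4355f232523371b2745c33b2c2b3e34673b38462e362d3e2c15030d021f201b221e6d1726272413262c162dbc3ed92ed82e512e5036532b0d369923072d5d3fb6141013031c120b0136cb3eca24072f0d2e4136402dc12dc01d6d27073d4d454c0f02000000000000)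 c

theorem orb_ok : ∀ c < 256, 2 < c → orbT c % 256 ≠ 0 ∧ orbT (orbT c % 256) / 2048 < orbT c / 2048 ∧
    qb (orbT c % 256) = qb c ∧ app 8 (m8 (.l (orbT c / 256 % 8))) (orbT c % 256) = c := by decide +kernel

theorem exists_orb (c : ℕ) (h : c < 256) (h0 : c ≠ 0) : ∃ g : A9, g • vc (if qb c then 2 else 1) = vc c := by
  induction e : orbT c / 2048 using Nat.strong_induction_on generalizing c with
  | _ n ih =>
    by_cases k : 2 < c
    · obtain ⟨a, b, d, f⟩ := orb_ok c h k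
      obtain ⟨g, hg⟩ := ih _ (e ▸ b) _ (Nat.mod_lt _ (by decide)) a rfl
      exact ⟨_ * g, by rw [mul_smul, ← d, hg, smul_vc _ (Nat.mod_lt _ (by decide)) f]⟩
    · obtain rfl | rfl : c = 1 ∨ c = 2 := by omega
      exacts [⟨1, one_smul _ _⟩, ⟨1, one_smul _ _⟩]

theorem stab_le {g : A9} (h : g • vc 1 = vc 1) : g ∈ KK 7 := by
  have a : KK 7 ≤ MulAction.stabilizer A9 (vc 1) := genW_le.2 fun t ht =>
    g_vc t ((by decide +kernel : ∀ t ∈ a9m.ws 7, 1 < 256 ∧ app 8 (mg t) 1 = 1) t ht)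
  have b : 135 ≤ (MulAction.stabilizer A9 (vc 1)).index := by
    rw [MulAction.index_stabilizer, show 135 = ((Finset.range 256).filter fun c => c ≠ 0 ∧ qb c = false).card by
      decide +kernel, ← Set.ncard_coe_finset]
    refine Set.ncard_le_ncard_of_injOn vc (fun c hc => ?_) fun a ha b hb => vc_inj ?_ ?_
    · obtain ⟨c1, c2, c3⟩ := Finset.mem_filter.1 hc
      have := exists_orb c (Finset.mem_range.1 c1) c2
      rwa [c3] at this
    exacts [Finset.mem_range.1 (Finset.mem_filter.1 ha).1, Finset.mem_range.1 (Finset.mem_filter.1 hb).1]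
  have c := (MulAction.stabilizer A9 (vc 1)).card_mul_index
  rw [card_A9] at c
  exact (Subgroup.eq_of_le_of_card_ge a (by rw [card_KK a9m_card7]; nlinarith)).ge h

/-- The codes of a maximal singular subspace. -/
def L0 : List ℕ := [0, 1, 10, 11, 64, 65, 74, 75, 160, 161, 170, 171, 224, 225, 234, 235]

/-- The maximal singular subspace. -/
def W0 : Submodule (ZMod 2) V8 := AddSubgroup.toZModSubmodule 2
  { carrier := {v | cd v ∈ L0}
    zero_mem' := by change cd 0 ∈ L0; rw [cd_zero]; decide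
    add_mem' := fun {a b} ha hb => by
      change cd _ ∈ L0
      rw [cd_add]; exact (by decide +kernel : ∀ a ∈ L0, ∀ b ∈ L0, a ^^^ b ∈ L0) _ ha _ hb
    neg_mem' := fun {a} ha => (U6.vneg a).symm ▸ ha }

theorem mem_W0 {v : V8} : v ∈ W0 ↔ cd v ∈ L0 := Iff.rfl

theorem vc_mem {c : ℕ} (h : c < 256 ∧ c ∈ L0) : vc c ∈ W0 := mem_W0.2 ((cd_vc h.1).symm ▸ h.2)

theorem le_card_W0 : 16 ≤ Nat.card W0 := by
  have l : ∀ i : Fin 16, L0.getD i 0 < 256 ∧ L0.getD i 0 ∈ L0 := by decide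
  simpa using Nat.card_le_card_of_injective (fun i : Fin 16 => (⟨_, vc_mem (l i)⟩ : W0)) fun i j e =>
    (by decide : ∀ i j : Fin 16, L0.getD i 0 = L0.getD j 0 → i = j) i j (vc_inj (l i).1 (l j).1 (congrArg Subtype.val e))

theorem W0_le {U : Submodule (ZMod 2) V8} {a b c d : ℕ} (ha : vc a ∈ U) (hb : vc b ∈ U) (hc : vc c ∈ U) (hd : vc d ∈ U)
    (h : ∀ x ∈ L0, ∃ i ∈ [0, a], ∃ j ∈ [0, b], ∃ k ∈ [0, c], ∃ l ∈ [0, d], x = i ^^^ j ^^^ k ^^^ l) : W0 ≤ U := fun v hv => by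
  have m : ∀ {a i}, vc a ∈ U → i ∈ [0, a] → vc i ∈ U := fun ha hi => by
    rcases List.mem_pair.1 hi with rfl | rfl
    exacts [vc_zero ▸ zero_mem _, ha]
  obtain ⟨i, hi, j, hj, k, hk, l, hl, e⟩ := h _ hv
  rw [← vc_cd v, e, vc_xor, vc_xor, vc_xor]
  exact add_mem (add_mem (add_mem (m ha hi) (m hb hj)) (m hc hk)) (m hd hl)

/-- The stabiliser of the singular subspace. -/
def SW : Subgroup A9 where
  carrier := {g | ∀ v ∈ W0, g • v ∈ W0}
  one_mem' v hv := by rwa [one_smul]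
  mul_mem' a b v hv := by rw [mul_smul]; exact a _ (b v hv)
  inv_mem' {g} a v hv := by
    obtain ⟨w, e⟩ := Finite.surjective_of_injective (f := fun w : W0 => (⟨_, a _ w.2⟩ : W0))
      (fun x y e => Subtype.ext (MulAction.injective g (congrArg Subtype.val e))) ⟨v, hv⟩
    rw [← show g • (w : V8) = v from congrArg Subtype.val e, inv_smul_smul]; exact w.2

theorem mem_SW (t : W) (h : ∀ c ∈ L0, app 8 (mg t) c ∈ L0) : t.ev ga ∈ SW := fun v hv => by
  rw [mem_W0, cd_g]; exact h _ hv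

/-- Words moving the first vector around the singular subspace. -/
def wl : List W := [.l 0, .mul (.mul (.mul (.mul (.mul (.l 5) (.l 7)) (.l 3)) (.l 5)) (.l 7)) (.l 3), .mul (.mul (.mul (.mul (.l 3) (.l 6)) (.inv (.l 5))) (.l 7)) (.l 3), .mul (.mul (.mul (.mul (.l 5) (.l 4)) (.l 3)) (.l 7)) (.l 3), .mul (.mul (.mul (.l 3) (.inv (.l 5))) (.l 7)) (.l 3), .mul (.mul (.mul (.mul (.mul (.inv (.l 5)) (.l 7)) (.l 3)) (.l 5)) (.l 7)) (.l 3), .mul (.mul (.mul (.mul (.l 3) (.inv (.l 5))) (.inv (.l 5))) (.l 7)) (.l 3), .mul (.mul (.mul (.l 4) (.l 3)) (.l 7)) (.l 3), .mul (.mul (.l 3) (.l 7)) (.l 3), .mul (.mul (.mul (.mul (.mul (.inv (.l 5)) (.inv (.l 5))) (.l 4)) (.l 3)) (.l 7)) (.l 3), .mul (.mul (.mul (.mul (.l 3) (.inv (.l 6))) (.l 5)) (.l 7)) (.l 3), .mul (.mul (.mul (.mul (.l 7) (.l 3)) (.l 5)) (.l 7)) (.l 3), .mul (.mul (.mul (.mul (.l 3) (.l 6)) (.l 5)) (.l 7)) (.l 3), .mul (.mul (.mul (.mul (.inv (.l 5)) (.l 4))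 (.l 3)) (.l 7)) (.l 3), .mul (.mul (.mul (.l 3) (.l 5)) (.l 7)) (.l 3)]

theorem exists_K8 {v : V8} (hv : v ∈ W0) (h0 : v ≠ 0) : ∃ g ∈ KK 8, g • vc 1 = v := by
  obtain ⟨t, ht, e⟩ := (by decide +kernel : ∀ c ∈ L0, c ≠ 0 → ∃ t ∈ wl, app 8 (mg t) 1 = c) _ hv
    fun e => h0 (cd_inj (e.trans cd_zero.symm))
  exact ⟨_, mem_KK (Grp.allP_iff.1 (by decide +kernel : Grp.allP wl (fun t => a9m.eval (.mem 8 t)) = true) t ht),
    (g_vc t ⟨by decide, e⟩).trans (vc_cd v)⟩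

theorem K8_le : KK 8 ≤ SW := genW_le.2 fun t ht =>
  mem_SW t ((by decide +kernel : ∀ t ∈ a9m.ws 8, ∀ c ∈ L0, app 8 (mg t) c ∈ L0) t ht)

theorem K7_le : KK 7 ≤ KK 8 := genW_le.2 fun t ht =>
  mem_KK (Grp.allP_iff.1 (by decide +kernel : Grp.allP (a9m.ws 7) (fun t => a9m.eval (.mem 8 t)) = true) t ht)

theorem SW_le : SW ≤ KK 8 := fun g hg => by
  obtain ⟨k, a, b⟩ := exists_K8 (hg _ (vc_mem (c := 1) (by decide))) ((smul_ne_zero_iff_ne g).2 (vc_ne (by decide)))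
  simpa using mul_mem a (K7_le (stab_le (g := k⁻¹ * g) (by rw [mul_smul, ← b, inv_smul_smul])))

theorem SW_ind {S : Subgroup A9} (h : ∀ g ∈ SW, g * g ∈ S) : SW ≤ S := SW_le.trans (genW_le.2 fun t ht => by
  rcases List.mem_pair.1 ht with rfl | rfl
  · exact S.mem_carrier.1 ((show 𝐬 ^ 4 * 𝐬 ^ 4 = 𝐬 by decide +kernel).subst (h _ (pow_mem (K8_le (mem_genW _ ht)) _)))
  · exact S.mem_carrier.1 ((show ga 23 ^ 2 * ga 23 ^ 2 = ga 23 by decide +kernel).subst
      (h _ (pow_mem (K8_le (mem_genW _ ht)) _))))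

theorem eq_one_of_fix {g : A9} (h : ∀ v ∈ W0, g • v = v) : g = 1 := by
  have k : ∀ {a b : ℕ}, (b < 256 ∧ b ∈ L0) → (1 < 256 ∧ app 8 (mg (.l a)) 1 = b) → (ga a)⁻¹ * g * ga a ∈ KK 7 := fun c d =>
    stab_le (by rw [mul_smul, mul_smul, inv_smul_eq_iff, show ga _ • vc 1 = _ from g_vc (.l _) d, h _ (vc_mem c)])
  exact a9f6 iso_ga g (stab_le (h _ (vc_mem (by decide)))) (k (b := 10) (by decide) (by decide +kernel))
    (k (b := 64) (by decide) (by decide +kernel)) (k (b := 160) (by decide) (by decide +kernel))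

theorem eq_zero_of_fix {v : V8} (hv : v ∈ W0) (h : ∀ g ∈ SW, g • vc 16 = vc 16 → g • v = v) : v = 0 := by
  have a := congrArg cd (h _ (mem_SW (.l 5) (by decide +kernel)) (g_vc _ (by decide +kernel)))
  have b := congrArg cd (h _ (mem_SW (.mul (.mul (.l 3) (.l 7)) (.l 3)) (by decide +kernel)) (g_vc _ (by decide +kernel)))
  rw [cd_g] at a b
  exact cd_inj (((by decide +kernel : ∀ c ∈ L0, app 8 (mg (.l 5)) c = c →
    app 8 (mg (.mul (.mul (.l 3) (.l 7)) (.l 3))) c = c → c = 0) _ hv a b).trans cd_zero.symm)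

/-- Words for a basis. -/
def bl (j : ℕ) : W := [.l 0, .l 4, .l 7, .mul (.inv (.l 5)) (.l 4), .mul (.inv (.l 5)) (.l 7), .mul (.l 4) (.l 7), .mul (.l 5) (.l 4), .mul (.l 5) (.l 7)].getD j (.l 0)

theorem top_of_SW {U : Submodule (ZMod 2) V8} (h : ∀ g ∈ SW, g • vc 16 ∈ U) (v : V8) : v ∈ U :=
  (top_of_cols (A := U.toAddSubgroup) (N := 0x7637b0da31b21310) (N' := 0xfe72e01dd6c2427) (fun j hj => by
    obtain ⟨a, b⟩ := (by decide +kernel : ∀ j < 8, (16 < 256 ∧ app 8 (mg (bl j)) 16 = get 8 0x7637b0da31b21310 j) ∧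
      ∀ c ∈ L0, app 8 (mg (bl j)) c ∈ L0) j hj
    exact g_vc _ a ▸ h _ (mem_SW _ b)) (by decide +kernel)).ge trivial

theorem fix_s {v : V8} (h : 𝐬 • v = v) : v = 0 ∨ v = vc 1 ∨ v = vc 16 ∨ v = vc 1 + vc 16 := by
  rcases (by decide +kernel : ∀ c < 256, app 8 (mg (.l 5)) c = c → c = 0 ∨ c = 1 ∨ c = 16 ∨ c = 1 ^^^ 16) _ (cd_lt v)
    ((cd_g (.l 5) v).symm.trans (congrArg cd h)) with e | e | e | e <;> rw [← vc_cd v, e]
  exacts [.inl vc_zero, .inr (.inl rfl), .inr (.inr (.inl rfl)), .inr (.inr (.inr (vc_xor _ _)))]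

/-- The standard module with an invariant form. -/
structure Std {q : QuadraticForm (ZMod 2) V8} (σ : A9 →* O q) : Prop where
  nd : ND q
  act : ∀ g v, (σ g).1 v = g • v

namespace Std

variable {q : QuadraticForm (ZMod 2) V8} {σ : A9 →* O q} (h : Std σ)
include h

theorem qm : QM σ := ⟨h.nd, card_V8, fun a b e => eq_of_smul_eq_smul fun v : V8 => by rw [← h.act, e, h.act]⟩

theorem fpf : O.fix (σ 𝐟) = ⊥ :=
  eq_bot_iff.2 fun v hv => fpf_of (by decide +kernel) v ((h.act _ _).symm.trans (O.mem_fix.1 hv))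

theorem q_smul (g : A9) (v : V8) : q (g • v) = q v := by rw [← h.act, O.map_Q]

theorem q_eq (v : V8) : q v = z2 (qb (cd v)) := by
  have k : ∀ c < 256, c ≠ 0 → q (vc c) = q (vc (if qb c then 2 else 1)) := fun c a b => by
    obtain ⟨g, e⟩ := exists_orb c a b
    rw [← e, h.q_smul]
  have a : q (vc 1) = 0 := by
    have := q.map_add_add_add_map (vc 1) (vc 10) (vc 64)
    simp only [← vc_xor] at this
    rw [k (1 ^^^ 10 ^^^ 64), k 10, k 64, k (1 ^^^ 10), k (10 ^^^ 64), k (64 ^^^ 1)] at this <;> try decide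
    exact (by decide : ∀ a : ZMod 2, a + (a + a + a) = a + a + a → a = 0) _ this
  have k' : ∀ v, q v = if qb (cd v) then q (vc 2) else 0 := forall_V8 fun c hc => by
    rw [cd_vc hc]
    by_cases e : c = 0
    · rw [e, vc_zero, map_zero]; rfl
    · rw [k c hc e]; split_ifs; exacts [rfl, a]
  have : Nontrivial V8 := ⟨_, _, vc_ne (a := 1) (by decide)⟩
  obtain ⟨w, hw⟩ := h.nd.exists_Q_ne
  have b : q (vc 2) = 1 := U6.z2_ne.1 fun e => hw (by rw [k', e, ite_self])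
  rw [k', b]; rfl

theorem polar_eq (u v : V8) : polar q u v = z2 (qb (cd u ^^^ cd v) ^^ qb (cd u) ^^ qb (cd v)) := by
  rw [polar, h.q_eq, h.q_eq, h.q_eq, cd_add, z2_xor, z2_xor, CharTwo.sub_eq_add, CharTwo.sub_eq_add]

theorem polar_vc {a b : ℕ} (k : a < 256 ∧ b < 256 ∧ (qb (a ^^^ b) ^^ qb a ^^ qb b) = false) : polar q (vc a) (vc b) = 0 := by
  rw [h.polar_eq, cd_vc k.1, cd_vc k.2.1, k.2.2]; rfl

theorem orb {v : V8} (h0 : v ≠ 0) (k : q v = 0) : ∃ g : A9, g • vc 1 = v := by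
  have := exists_orb _ (cd_lt v) fun e => h0 (cd_inj (e.trans cd_zero.symm))
  rwa [z2_inj ((h.q_eq v).symm.trans k : _ = z2 false), vc_cd] at this

theorem q_W0 {v : V8} (hv : v ∈ W0) : q v = 0 := by
  rw [h.q_eq, (by decide : ∀ c ∈ L0, qb c = false) _ hv]; rfl

theorem perp_W0 : perp q W0 = W0 := by
  have a : W0 ≤ perp q W0 := fun v hv => mem_perp.2 fun w hw => by
    rw [polar, h.q_W0 hv, h.q_W0 hw, h.q_W0 (add_mem hw hv)]; rfl
  have b := U6.card_perp h.nd W0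
  have c := le_card_W0
  rw [card_V8] at b
  exact (SetLike.coe_injective (Set.Finite.eq_of_subset_of_card_le (Set.toFinite _) a (by
    change Nat.card (perp q W0) ≤ Nat.card W0; nlinarith))).symm

theorem card_W0 : Nat.card W0 = 16 := by
  have b := U6.card_perp h.nd W0
  rw [card_V8, h.perp_W0] at b
  nlinarith

end Std

theorem Std.q_ext {q q' : QuadraticForm (ZMod 2) V8} {σ : A9 →* O q} {σ' : A9 →* O q'} (h : Std σ) (h' : Std σ') :
    q = q' := QuadraticMap.ext fun v => (h.q_eq v).trans (h'.q_eq v).symm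

end Cfsg.Lib.ThU
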